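import Mathlib
import Groth.Prelude.Def_DCoh2
import Groth.Prelude.Def_DCoh3
import Groth.Prelude.Def_DDual2
import Groth.Agent.Lib.Helper30.AffinePush.TildePush
import Groth.Agent.Lib.Helper30.AffinePush.SpecSections
import Groth.Agent.Lib.Helper35.FlatBC

/-!
# Restriction of `M~` along an open immersion `Spec A' ⟶ Spec A` is `(A' ⊗_A M)~` (helper30)
-/

set_option autoImplicit false
universe u
open CategoryTheory CategoryTheory.Limits AlgebraicGeometry TopologicalSpace Opposite
attribute [local instance] HasDerivedCategory.standard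

namespace Groth.Agent.Lib.Helper30.RelPCLoc

open Scheme.Modules Groth.Agent.Lib.Helper35.FlatBC Groth.Agent.Lib.Helper30.AffinePush

variable {A A' : CommRingCat.{u}} [Algebra A A'] (φ : A ⟶ A') (hφ : φ.hom = algebraMap A A')
  [IsOpenImmersion (Spec.map φ)]

include hφ in
/-- `(M~)|_{Spec A'} ≅ (A' ⊗_A M)~`, naturally in the module `M` -/
noncomputable def tildeRestrictIso :
    tilde.functor A ⋙ restrictFunctor (Spec.map φ) ≅ ext A A' ⋙ tilde.functor A' :=
  let adjL := (tilde.adjunction (R := A)).comp (restrictAdjunction (Spec.map φ))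
  let adjR := (ModuleCat.extendRestrictScalarsAdj.{u, u, u} (algebraMap A A')).comp
    (tilde.adjunction (R := A'))
  (adjL.ofNatIsoRight (pushΓIso φ ≪≫ Functor.isoWhiskerLeft _
    (eqToIso (by rw [hφ])))).leftAdjointUniq adjR

variable [Module.Flat A A']

include hφ in
/-- `(M~)|_{Spec A'} ≅ (A' ⊗_A M)~` for a complex -/
noncomputable def tildeDRestrictCxIso (K : DRing.Cx A) :
    (DCoh.restrictD (Spec.map φ)).obj ((DCoh.tildeD A).obj (DRing.toD K)) ≅
      (DCoh.tildeD A').obj ((G A A').obj (DRing.toD K)) :=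
  (DCoh.restrictD (Spec.map φ)).mapIso
      ((tilde.functor A).mapDerivedCategoryFactors.app K) ≪≫
    (restrictFunctor (Spec.map φ)).mapDerivedCategoryFactors.app _ ≪≫
    DerivedCategory.Q.mapIso
      (HomologicalComplex.Hom.isoOfComponents
        (C₁ := ((restrictFunctor (Spec.map φ)).mapHomologicalComplex (ComplexShape.up ℤ)).obj
          (((tilde.functor A).mapHomologicalComplex (ComplexShape.up ℤ)).obj K))
        (C₂ := ((tilde.functor A').mapHomologicalComplex (ComplexShape.up ℤ)).obj
          ((extCx A A').obj K))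
        (fun i => (tildeRestrictIso φ hφ).app (K.X i))
        (fun i j _ => ((tildeRestrictIso φ hφ).hom.naturality (K.d i j)).symm)) ≪≫
    ((tilde.functor A').mapDerivedCategoryFactors.app _).symm ≪≫
    (DCoh.tildeD A').mapIso (GQIso A' K).symm

include hφ in
/-- `(M~)|_{Spec A'} ≅ (A' ⊗_A M)~` on derived categories -/
theorem nonempty_tildeD_restrict_iso (M : Dual.D A) :
    Nonempty ((DCoh.restrictD (Spec.map φ)).obj ((DCoh.tildeD A).obj M) ≅
      (DCoh.tildeD A').obj ((G A A').obj M)) := by
  let K : DRing.Cx A := DerivedCategory.Q.objPreimage M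
  let eK : DRing.toD K ≅ M := DerivedCategory.Q.objObjPreimageIso M
  exact ⟨(DCoh.restrictD (Spec.map φ)).mapIso ((DCoh.tildeD A).mapIso eK.symm) ≪≫
    tildeDRestrictCxIso φ hφ K ≪≫ (DCoh.tildeD A').mapIso ((G A A').mapIso eK)⟩

end Groth.Agent.Lib.Helper30.RelPCLoc
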