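import Mathlib
import Groth.Prelude.Def_DCoh2
import Groth.Prelude.Def_DCoh3
import Groth.Prelude.Def_DDual2
import Groth.Prelude.Def_DerSch2
import Groth.Agent.Lib.Helper30.AffinePush.FinitePush
import Groth.Agent.Lib.Helper30.RelPC.TildeRestrict
import Groth.Agent.Lib.Helper19.ClosedColim

/-!
# Chart dictionary for relative pseudo-coherence (helper30)

* `chartCxIso`: `(isoSpec)_* (G|_U)` computes `chartObj hU (Q G)`.
* `nonempty_closedPush_iso`: direct image along a closed immersion `U ⟶ Spec P` given by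
  `φ : P ⟶ Γ(U)` of `G|_U`, when `chartObj hU (Q G) ≅ M~`, is `(M_P)~`.
* `nonempty_chartObj_basicOpen_iso`: `chartObj` on a basic open is `(A_g ⊗ M)~`.
-/

set_option autoImplicit false
universe u
open CategoryTheory CategoryTheory.Limits AlgebraicGeometry TopologicalSpace Opposite
attribute [local instance] HasDerivedCategory.standard

namespace Groth.Agent.Lib.Helper30.RelPCLoc

open Scheme.Modules Groth.Agent.Lib.Helper35.FlatBC Groth.Agent.Lib.Helper30.AffinePush
  Groth.Agent.Lib.Helper30.PerfRestrict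

variable {X : Scheme.{u}} {U : X.Opens} (hU : IsAffineOpen U)

/-- `(isoSpec)_* (G|_U)` computes `chartObj hU (Q G)` -/
noncomputable def chartCxIso (G : CochainComplex X.Modules ℤ) :
    DCoh.toD _ ((DerSch.pushCx hU.isoSpec.hom).obj ((DCoh.restrictCx U).obj G)) ≅
      chartObj hU (DCoh.toD X G) :=
  DerivedCategory.Q.mapIso
      ((NatIso.mapHomologicalComplex (pushforwardIsoRestrict hU.isoSpec) (ComplexShape.up ℤ)).app
        ((DCoh.restrictCx U).obj G)) ≪≫
    ((restrictFunctor hU.isoSpec.inv).mapDerivedCategoryFactors.app _).symm ≪≫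
    (DCoh.restrictD hU.isoSpec.inv).mapIso
      ((restrictFunctor U.ι).mapDerivedCategoryFactors.app G).symm

section ClosedPush

variable {P : CommRingCat.{u}} (φ : P ⟶ Γ(X, U)) [IsClosedImmersion (Spec.map φ)]

lemma preservesFiniteColimits_pushforward_closed {Z Y : Scheme.{u}} (i : Z ⟶ Y)
    [IsClosedImmersion i] : PreservesFiniteColimits (pushforward i) := by
  have h := Groth.Agent.Helper19.ClosedColim.preservesColimits_pushforward_of_isClosedImmersion i
  have : PreservesColimitsOfSize.{0, 0} (pushforward i) :=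
    preservesColimitsOfSize_shrink.{0, u, 0, u} _
  exact PreservesColimitsOfSize.preservesFiniteColimits _

lemma preservesFiniteLimits_pushforward' {Z Y : Scheme.{u}} (i : Z ⟶ Y) :
    PreservesFiniteLimits (pushforward i) := by
  have : (pushforward i).IsRightAdjoint := (pullbackPushforwardAdjunction i).isRightAdjoint
  infer_instance

/-- direct image of `G|_U` along the closed immersion `U ⟶ Spec P` defined by `φ` -/
theorem nonempty_closedPush_iso (G : CochainComplex X.Modules ℤ) (M₀ : Dual.D Γ(X, U))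
    (e₀ : chartObj hU (DCoh.toD X G) ≅ (DCoh.tildeD Γ(X, U)).obj M₀) :
    Nonempty (DCoh.toD _ ((DerSch.pushCx (U.toSpecΓ ≫ Spec.map φ)).obj
        ((DCoh.restrictCx U).obj G)) ≅
      (DCoh.tildeD P).obj ((DRing.restrictD φ.hom).obj M₀)) := by
  let i := Spec.map φ
  have : PreservesFiniteColimits (pushforward i) := preservesFiniteColimits_pushforward_closed i
  have : PreservesFiniteLimits (pushforward i) := preservesFiniteLimits_pushforward' i
  let c := ComplexShape.up ℤ
  let K₁ := (DerSch.pushCx hU.isoSpec.hom).obj ((DCoh.restrictCx U).obj G)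
  let K' : DRing.Cx Γ(X, U) := DerivedCategory.Q.objPreimage M₀
  let eK' : DRing.toD K' ≅ M₀ := DerivedCategory.Q.objObjPreimageIso M₀
  let a : (DerSch.pushCx (U.toSpecΓ ≫ i)).obj ((DCoh.restrictCx U).obj G) ≅
      (DerSch.pushCx i).obj K₁ :=
    (NatIso.mapHomologicalComplex (pushforwardComp U.toSpecΓ i).symm c).app _
  let b : DCoh.toD _ ((DerSch.pushCx i).obj K₁) ≅
      (pushforward i).mapDerivedCategory.obj (DCoh.toD _ K₁) :=
    ((pushforward i).mapDerivedCategoryFactors.app K₁).symm
  let tK' := ((tilde.functor Γ(X, U)).mapHomologicalComplex c).obj K'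
  let d : DCoh.toD _ K₁ ≅ DCoh.toD _ tK' :=
    chartCxIso hU G ≪≫ e₀ ≪≫ (DCoh.tildeD Γ(X, U)).mapIso eK'.symm ≪≫
      (tilde.functor Γ(X, U)).mapDerivedCategoryFactors.app K'
  let e : (pushforward i).mapDerivedCategory.obj (DCoh.toD _ tK') ≅
      DCoh.toD _ ((DerSch.pushCx i).obj tK') :=
    (pushforward i).mapDerivedCategoryFactors.app tK'
  let rK' := ((ModuleCat.restrictScalars.{u} φ.hom).mapHomologicalComplex c).obj K'
  let f : (DerSch.pushCx i).obj tK' ≅ ((tilde.functor P).mapHomologicalComplex c).obj rK' :=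
    HomologicalComplex.Hom.isoOfComponents (fun n => (tildePushIso φ).app (K'.X n))
      (fun n n' _ => ((tildePushIso φ).hom.naturality (K'.d n n')).symm)
  let g : DCoh.toD _ (((tilde.functor P).mapHomologicalComplex c).obj rK') ≅
      (DCoh.tildeD P).obj ((DRing.restrictD φ.hom).obj M₀) :=
    ((tilde.functor P).mapDerivedCategoryFactors.app rK').symm ≪≫
      (DCoh.tildeD P).mapIso
        (((ModuleCat.restrictScalars.{u} φ.hom).mapDerivedCategoryFactors.app K').symm ≪≫
          (DRing.restrictD φ.hom).mapIso eK')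
  exact ⟨DerivedCategory.Q.mapIso a ≪≫ b ≪≫ (pushforward i).mapDerivedCategory.mapIso d ≪≫ e ≪≫
    DerivedCategory.Q.mapIso f ≪≫ g⟩

end ClosedPush

section BasicOpen

variable (g : Γ(X, U))

include hU in
lemma flat_basicOpen : Module.Flat Γ(X, U) Γ(X, X.basicOpen g) := by
  have := hU.isLocalization_basicOpen g
  exact IsLocalization.flat _ (Submonoid.powers g)

/-- the restriction map `Γ(U) ⟶ Γ(D(g))` -/
abbrev resMap : Γ(X, U) ⟶ Γ(X, X.basicOpen g) :=
  X.presheaf.map (homOfLE (X.basicOpen_le g)).op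

lemma resMap_hom : (resMap g).hom = algebraMap Γ(X, U) Γ(X, X.basicOpen g) := rfl

include hU in
lemma resMap_fromSpec :
    Spec.map (resMap g) ≫ hU.fromSpec = (hU.basicOpen g).fromSpec :=
  hU.map_fromSpec (hU.basicOpen g) (homOfLE (X.basicOpen_le g)).op

include hU in
lemma isOpenImmersion_resMap : IsOpenImmersion (Spec.map (resMap g)) := by
  have : IsOpenImmersion (Spec.map (resMap g) ≫ hU.fromSpec) := by
    rw [resMap_fromSpec hU g]
    infer_instance
  exact IsOpenImmersion.of_comp _ hU.fromSpec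

/-- `chartObj` on a basic open: `RΓ(D(g), E) = A_g ⊗_A RΓ(U, E)` -/
theorem nonempty_chartObj_basicOpen_iso [Module.Flat Γ(X, U) Γ(X, X.basicOpen g)]
    (E : DCoh.D X) (M : Dual.D Γ(X, U))
    (e : chartObj hU E ≅ (DCoh.tildeD Γ(X, U)).obj M) :
    Nonempty (chartObj (hU.basicOpen g) E ≅
      (DCoh.tildeD Γ(X, X.basicOpen g)).obj
        ((G Γ(X, U) Γ(X, X.basicOpen g)).obj M)) := by
  have := isOpenImmersion_resMap hU g
  obtain ⟨t⟩ := nonempty_tildeD_restrict_iso (resMap g) (resMap_hom g) M
  have h1 : chartObj (hU.basicOpen g) E ≅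
      (rD (Spec.map (resMap g))).obj ((rD hU.fromSpec).obj E) :=
    chartIso (hU.basicOpen g) E ≪≫
      rDFac (Spec.map (resMap g)) hU.fromSpec (hU.basicOpen g).fromSpec (resMap_fromSpec hU g) E
  exact ⟨h1 ≪≫ (rD (Spec.map (resMap g))).mapIso ((chartIso hU E).symm ≪≫ e) ≪≫ t⟩

end BasicOpen

end Groth.Agent.Lib.Helper30.RelPCLoc
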