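import Mathlib
import Groth.Prelude.Def_DRing2
import Groth.Prelude.Def_DDual2
import Groth.Prelude.Def_DerCA
import Groth.Agent.Lib.Helper6.LocPC

/-!
# Relative pseudo-coherence over rings and localizations `IsLocalization.Away` (helper30)

helper6's `LocPC` treats `Localization.Away g`; here the results are transported to an arbitrary
`A`-algebra `A'` with `IsLocalization.Away g A'`, and phrased with the exact functor
`G A A' = (A' ⊗_A -)` on derived categories.
-/

set_option autoImplicit false
universe u

open CategoryTheory Limits DerivedCategory TensorProduct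

namespace Groth.Agent.Lib.Helper30.RelPCLoc

attribute [local instance] HasDerivedCategory.standard

open Groth.Agent.Lib.Helper6 Groth.Agent.Lib.Helper6.RestrPC Groth.Agent.Lib.Helper6.MPC
  Groth.Agent.Lib.Helper35.FlatBC

section Iso

variable {R A : Type u} [CommRing R] [CommRing A] [Algebra R A]

lemma relPC_of_iso {K K' : Dual.D A} (e : K ≅ K') {m : ℤ}
    (h : DerCA.IsRelPseudoCoherent R A m K) : DerCA.IsRelPseudoCoherent R A m K' := by
  obtain ⟨n, α, hα, hK⟩ := h
  exact ⟨n, α, hα, isPC_of_iso ((DRing.restrictD (α : MvPolynomial (Fin n) R →+* A)).mapIso e) hK⟩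

end Iso

section Transport

variable {A L A' : Type u} [CommRing A] [CommRing L] [CommRing A'] [Algebra A L] [Algebra A A']
  (ε : L ≃+* A') (hε : ∀ a : A, ε (algebraMap A L a) = algebraMap A A' a)

include hε in
lemma algebraMap_eq_comp : algebraMap A A' = ε.toRingHom.comp (algebraMap A L) := by
  ext a
  exact (hε a).symm

include hε in
lemma ext_eq : ext A A' = ModuleCat.extendScalars.{u, u, u} (ε.toRingHom.comp (algebraMap A L)) := by
  show ModuleCat.extendScalars.{u, u, u} (algebraMap A A') = _
  rw [algebraMap_eq_comp ε hε]

include hε in
/-- `A' ⊗_A -` restricted along the isomorphism `L ≅ A'` is `L ⊗_A -`. -/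
noncomputable def extRestrIso :
    ext A A' ⋙ ModuleCat.restrictScalars.{u} ε.toRingHom ≅ ext A L :=
  Functor.isoWhiskerRight
      (eqToIso (ext_eq ε hε) ≪≫
        ModuleCat.extendScalarsComp.{u} (algebraMap A L) ε.toRingHom) _ ≪≫
    Functor.associator _ _ _ ≪≫
    Functor.isoWhiskerLeft _ (asIso (ModuleCat.extendRestrictScalarsAdj.{u, u, u} ε.toRingHom).unit).symm ≪≫
    Functor.rightUnitor _

variable [Module.Flat A L] [Module.Flat A A']

include hε in
/-- derived version of `extRestrIso` on a complex -/
noncomputable def restrictGIso (K : DRing.Cx A) :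
    (DRing.restrictD ε.toRingHom).obj ((G A A').obj (DRing.toD K)) ≅
      DRing.toD ((extCx A L).obj K) :=
  (DRing.restrictD ε.toRingHom).mapIso (GQIso A' K) ≪≫
    (ModuleCat.restrictScalars.{u} ε.toRingHom).mapDerivedCategoryFactors.app _ ≪≫
    Q.mapIso (HomologicalComplex.Hom.isoOfComponents
      (fun i => (extRestrIso ε hε).app (K.X i))
      (fun i j _ => ((extRestrIso ε hε).hom.naturality (K.d i j)).symm))

end Transport

section Away

variable {R A A' : Type u} [CommRing R] [CommRing A] [CommRing A'] [Algebra R A] [Algebra A A']
  [Algebra R A'] [IsScalarTower R A A'] (g : A) [IsLocalization.Away g A']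

/-- the canonical ring isomorphism `A_g ≅ A'` -/
noncomputable def awayEquiv : Localization.Away g ≃+* A' :=
  (IsLocalization.algEquiv (Submonoid.powers g) (Localization.Away g) A').toRingEquiv

lemma awayEquiv_algebraMap (a : A) :
    awayEquiv (A' := A') g (algebraMap A (Localization.Away g) a) = algebraMap A A' a :=
  (IsLocalization.algEquiv (Submonoid.powers g) (Localization.Away g) A').commutes a

include g in
lemma flat_of_away : Module.Flat A A' := IsLocalization.flat A' (Submonoid.powers g)

/-- transport between `A'` and `Localization.Away g` -/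
theorem relPC_G_iff [Algebra.FiniteType R A] [Module.Flat A A'] (K : DRing.Cx A) (m : ℤ) :
    DerCA.IsRelPseudoCoherent R A' m ((G A A').obj (DRing.toD K)) ↔
      DerCA.IsRelPseudoCoherent R (Localization.Away g) m
        (DRing.toD ((extCx A (Localization.Away g)).obj K)) := by
  let ε : Localization.Away g ≃+* A' := awayEquiv g
  have hε : ∀ a : A, ε (algebraMap A (Localization.Away g) a) = algebraMap A A' a :=
    awayEquiv_algebraMap g
  let _ : Algebra (Localization.Away g) A' := ε.toRingHom.toAlgebra
  have hmap : algebraMap (Localization.Away g) A' = ε.toRingHom := rfl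
  have : IsScalarTower R (Localization.Away g) A' := IsScalarTower.of_algebraMap_eq (fun r => by
    rw [hmap, IsScalarTower.algebraMap_apply R A (Localization.Away g)]
    show algebraMap R A' r = ε (algebraMap A (Localization.Away g) (algebraMap R A r))
    rw [hε, ← IsScalarTower.algebraMap_apply])
  have : Module.Finite (Localization.Away g) A' :=
    Module.Finite.of_surjective (Algebra.linearMap (Localization.Away g) A') ε.surjective
  have hfp : Algebra.FinitePresentation A (Localization.Away g) :=
    IsLocalization.Away.finitePresentation g
  have : Algebra.FiniteType A (Localization.Away g) := Algebra.FiniteType.of_finitePresentation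
  have : Algebra.FiniteType R (Localization.Away g) := Algebra.FiniteType.trans (S := A)
    inferInstance inferInstance
  have : Algebra.FiniteType (Localization.Away g) A' :=
    Algebra.FiniteType.of_surjective (Algebra.ofId _ _) ε.surjective
  have : Algebra.FiniteType R A' := Algebra.FiniteType.trans (S := Localization.Away g)
    inferInstance inferInstance
  rw [relPC_restrict_iff_of_finite (R := R) (A := Localization.Away g) (B := A')]
  exact ⟨relPC_of_iso (restrictGIso ε hε K), relPC_of_iso (restrictGIso ε hε K).symm⟩

include g in
/-- relative pseudo-coherence passes to principal localizations -/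
theorem relPC_G_of_away [Algebra.FiniteType R A] [Module.Flat A A'] (M : Dual.D A) (m : ℤ)
    (h : DerCA.IsRelPseudoCoherent R A m M) :
    DerCA.IsRelPseudoCoherent R A' m ((G A A').obj M) := by
  obtain ⟨n, α, hα⟩ := (Algebra.FiniteType.iff_quotient_mvPolynomial'' (R := R) (S := A)).1
    inferInstance
  let K : DRing.Cx A := Q.objPreimage M
  let eK : DRing.toD K ≅ M := Q.objObjPreimageIso M
  refine relPC_of_iso ((G A A').mapIso eK) ?_
  rw [relPC_G_iff g K m]
  exact relPC_away' α hα g K m (relPC_of_iso eK.symm h)

end Away

section Cover

variable {R A : Type u} [CommRing R] [CommRing A] [Algebra R A] [Algebra.FiniteType R A]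

/-- relative pseudo-coherence can be checked on a principal open cover -/
theorem relPC_of_cover {r : ℕ} (g : Fin r → A) (hg : Ideal.span (Set.range g) = ⊤)
    (A' : Fin r → Type u) [∀ i, CommRing (A' i)] [∀ i, Algebra A (A' i)] [∀ i, Algebra R (A' i)]
    [∀ i, IsScalarTower R A (A' i)] [∀ i, IsLocalization.Away (g i) (A' i)]
    [∀ i, Module.Flat A (A' i)] (M : Dual.D A) (m : ℤ)
    (h : ∀ i, DerCA.IsRelPseudoCoherent R (A' i) m ((G A (A' i)).obj M)) :
    DerCA.IsRelPseudoCoherent R A m M := by
  let K : DRing.Cx A := Q.objPreimage M
  let eK : DRing.toD K ≅ M := Q.objObjPreimageIso M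
  refine relPC_of_iso eK ?_
  rw [relPC_iff_of_cover K m g hg]
  intro i
  have h1 := relPC_of_iso ((G A (A' i)).mapIso eK.symm) (h i)
  exact (relPC_G_iff (g i) K m).1 h1

end Cover

section Base

variable {R R' A : Type u} [CommRing R] [CommRing R'] [CommRing A] [Algebra R R'] [Algebra R' A]
  [Algebra R A] [IsScalarTower R R' A] (b : R) [IsLocalization.Away b R']

include b in
/-- a principal localization of `R` is pseudo-coherent relative to `R` -/
lemma relPC_self_of_away : DerCA.IsRelPseudoCoherentModuleAll R R' R' := by
  intro m
  let ε : Localization.Away b ≃+* R' := awayEquiv b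
  have hε : ∀ a : R, ε (algebraMap R (Localization.Away b) a) = algebraMap R R' a :=
    awayEquiv_algebraMap b
  let _ : Algebra (Localization.Away b) R' := ε.toRingHom.toAlgebra
  have hmap : algebraMap (Localization.Away b) R' = ε.toRingHom := rfl
  have : IsScalarTower R (Localization.Away b) R' := IsScalarTower.of_algebraMap_eq (fun r => by
    rw [hmap]
    exact (hε r).symm)
  have : Module.Finite (Localization.Away b) R' :=
    Module.Finite.of_surjective (Algebra.linearMap (Localization.Away b) R') ε.surjective
  have hfp : Algebra.FinitePresentation R (Localization.Away b) :=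
    IsLocalization.Away.finitePresentation b
  have : Algebra.FiniteType R (Localization.Away b) := Algebra.FiniteType.of_finitePresentation
  have : Algebra.FiniteType (Localization.Away b) R' :=
    Algebra.FiniteType.of_surjective (Algebra.ofId _ _) ε.surjective
  have : Algebra.FiniteType R R' := Algebra.FiniteType.trans (S := Localization.Away b)
    inferInstance inferInstance
  show DerCA.IsRelPseudoCoherent R R' m (Dual.inD R' R')
  rw [relPC_restrict_iff_of_finite (R := R) (A := Localization.Away b) (B := R')]
  refine relPC_of_iso ?_ (relPC_self_away b m)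
  exact (DerivedCategory.singleFunctor _ 0).mapIso (ModuleCat.restrictScalarsIsoOfEquiv ε).symm ≪≫
    ((ModuleCat.restrictScalars.{u} ε.toRingHom).mapDerivedCategorySingleFunctor 0).symm.app
      (ModuleCat.of R' R')

include b in
/-- changing the base ring to a principal localization -/
theorem relPC_base_iff [Algebra.FiniteType R A] (K : Dual.D A) (m : ℤ) :
    DerCA.IsRelPseudoCoherent R' A m K ↔ DerCA.IsRelPseudoCoherent R A m K := by
  let ε : Localization.Away b ≃+* R' := awayEquiv b
  have hfp : Algebra.FinitePresentation R (Localization.Away b) :=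
    IsLocalization.Away.finitePresentation b
  have : Algebra.FiniteType R (Localization.Away b) := Algebra.FiniteType.of_finitePresentation
  have : Algebra.FiniteType R R' := by
    let φ : Localization.Away b →ₐ[R] R' :=
      (IsLocalization.algEquiv (Submonoid.powers b) (Localization.Away b) R').toAlgHom
    exact Algebra.FiniteType.of_surjective φ
      (IsLocalization.algEquiv (Submonoid.powers b) (Localization.Away b) R').surjective
  have : Algebra.FiniteType R' A := Algebra.FiniteType.of_restrictScalars_finiteType R R' A
  exact relPC_trans_iff (R := R) (A := R') (B := A) (relPC_self_of_away b) K m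

end Base

end Groth.Agent.Lib.Helper30.RelPCLoc
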