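import Mathlib
import Groth.Prelude.Def_DCoh2
import Groth.Prelude.Def_DCoh3
import Groth.Prelude.Def_DDual2
import Groth.Prelude.Def_DerSch2
import Groth.Prelude.Def_DerCA
import Groth.Agent.Lib.Helper30.RelPC.RingLoc
import Groth.Agent.Lib.Helper30.RelPC.ChartDict

/-!
# Relative pseudo-coherence on affine pairs `U ⊆ f⁻¹V`: locality (helper30)
-/

set_option autoImplicit false
universe u
open CategoryTheory CategoryTheory.Limits AlgebraicGeometry TopologicalSpace Opposite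
attribute [local instance] HasDerivedCategory.standard

namespace Groth.Agent.Lib.Helper30.RelPCLoc

open Scheme.Modules Groth.Agent.Lib.Helper35.FlatBC Groth.Agent.Lib.Helper30.AffinePush
  Groth.Agent.Lib.Helper30.PerfRestrict Groth.Agent.Lib.Helper30.TildePC
  Groth.Agent.Lib.Helper30.PCTriangle

variable {X S : Scheme.{u}} (f : X ⟶ S) (E : DCoh.D X) (m : ℤ)

/-- ring-level relative pseudo-coherence of `RΓ(U, E)` over `Γ(V)` -/
def RelPCOn (U : X.Opens) (hU : IsAffineOpen U) (V : S.Opens) (h : U ≤ f ⁻¹ᵁ V) : Prop :=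
  ∀ M : Dual.D Γ(X, U), Nonempty (chartObj hU E ≅ (DCoh.tildeD Γ(X, U)).obj M) →
    @DerCA.IsRelPseudoCoherent Γ(S, V) Γ(X, U) _ _ (f.appLE V U h).hom.toAlgebra m M

variable {f E m}

lemma relPCOn_congr {U U' : X.Opens} (hUU' : U = U') {hU : IsAffineOpen U}
    {hU' : IsAffineOpen U'} {V : S.Opens} {h : U ≤ f ⁻¹ᵁ V} {h' : U' ≤ f ⁻¹ᵁ V}
    (hrel : RelPCOn f E m U hU V h) : RelPCOn f E m U' hU' V h' := by
  subst hUU'
  exact hrel

lemma relPCOn_congr_base {U : X.Opens} {hU : IsAffineOpen U} {V V' : S.Opens} (hVV' : V = V')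
    {h : U ≤ f ⁻¹ᵁ V} {h' : U ≤ f ⁻¹ᵁ V'}
    (hrel : RelPCOn f E m U hU V h) : RelPCOn f E m U hU V' h' := by
  subst hVV'
  exact hrel

lemma relPCOn_of_exists {U : X.Opens} {hU : IsAffineOpen U} {V : S.Opens} {h : U ≤ f ⁻¹ᵁ V}
    (M₀ : Dual.D Γ(X, U)) (e₀ : chartObj hU E ≅ (DCoh.tildeD Γ(X, U)).obj M₀)
    (h₀ : @DerCA.IsRelPseudoCoherent Γ(S, V) Γ(X, U) _ _ (f.appLE V U h).hom.toAlgebra m M₀) :
    RelPCOn f E m U hU V h := by
  rintro M ⟨e⟩
  have ff := Groth.Agent.S0997.result Γ(X, U)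
  have := ff.1
  have := ff.2.1
  let i : M₀ ≅ M := (DCoh.tildeD Γ(X, U)).preimageIso (e₀.symm ≪≫ e)
  let _ : Algebra Γ(S, V) Γ(X, U) := (f.appLE V U h).hom.toAlgebra
  exact relPC_of_iso i h₀

/-- pseudo-coherence of the direct image along `U ⟶ Spec P` in ring terms -/
lemma isPC_restrictD_of_closedPush {U : X.Opens} (hU : IsAffineOpen U) (P : CommRingCat.{u})
    (φ' : P ⟶ Γ(X, U)) (hφ' : Function.Surjective φ'.hom) (G : CochainComplex X.Modules ℤ)
    (M₀ : Dual.D Γ(X, U)) (e₀ : chartObj hU (DCoh.toD X G) ≅ (DCoh.tildeD Γ(X, U)).obj M₀) :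
    DCoh.IsPseudoCoherentD m (DCoh.toD (Spec P)
      ((DerSch.pushCx (U.toSpecΓ ≫ Spec.map φ')).obj ((DCoh.restrictCx U).obj G))) ↔
    DRing.IsPseudoCoherent P m ((DRing.restrictD φ'.hom).obj M₀) := by
  have : IsClosedImmersion (Spec.map φ') := IsClosedImmersion.spec_of_surjective φ' hφ'
  obtain ⟨t⟩ := nonempty_closedPush_iso hU φ' G M₀ e₀
  constructor
  · intro h1
    exact isPC_of_isPseudoCoherentD_tildeD P _ m (isPseudoCoherentD_of_iso t m h1)
  · intro h1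
    exact isPseudoCoherentD_of_iso t.symm m (isPseudoCoherentD_tildeD P _ m h1)

/-- a chart with `ChartPC` gives ring-level relative pseudo-coherence -/
theorem relPCOn_of_chart (hE : DCoh.IsQCohD E) {U : X.Opens} (hU : IsAffineOpen U) {V : S.Opens}
    (h : U ≤ f ⁻¹ᵁ V) {n : ℕ} (φ : MvPolynomial (Fin n) Γ(S, V) →+* Γ(X, U))
    (hφ : DerSch.IsChart f U V h φ) (hpc : DerSch.ChartPC m E U V φ) :
    RelPCOn f E m U hU V h := by
  obtain ⟨M₀, ⟨e₀⟩⟩ := exists_chart hU E hE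
  apply relPCOn_of_exists M₀ e₀
  let G : CochainComplex X.Modules ℤ := DerivedCategory.Q.objPreimage E
  let eG : DCoh.toD X G ≅ E := DerivedCategory.Q.objObjPreimageIso E
  have h1 := hpc G ⟨eG⟩
  have h3 := (isPC_restrictD_of_closedPush (m := m) hU
    (CommRingCat.of (MvPolynomial (Fin n) Γ(S, V))) (CommRingCat.ofHom φ) hφ.1 G M₀
    ((DCoh.restrictD hU.isoSpec.inv).mapIso ((DCoh.restrictD U.ι).mapIso eG) ≪≫ e₀)).1 h1
  let _ : Algebra Γ(S, V) Γ(X, U) := (f.appLE V U h).hom.toAlgebra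
  let α : MvPolynomial (Fin n) Γ(S, V) →ₐ[Γ(S, V)] Γ(X, U) :=
    { φ with
      commutes' := fun r => by
        have := congrArg (fun ψ : Γ(S, V) →+* Γ(X, U) => ψ r) hφ.2
        exact this }
  exact ⟨n, α, hφ.1, h3⟩

section Localize

variable [LocallyOfFiniteType f]

lemma finiteType_appLE {U : X.Opens} (hU : IsAffineOpen U) {V : S.Opens} (hV : IsAffineOpen V)
    (h : U ≤ f ⁻¹ᵁ V) :
    @Algebra.FiniteType Γ(S, V) Γ(X, U) _ _ (f.appLE V U h).hom.toAlgebra :=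
  HasRingHomProperty.appLE @LocallyOfFiniteType f inferInstance ⟨V, hV⟩ ⟨U, hU⟩ h

/-- relative pseudo-coherence passes to basic opens of `U` -/
theorem relPCOn_basicOpen (hE : DCoh.IsQCohD E) {U : X.Opens} (hU : IsAffineOpen U)
    {V : S.Opens} (hV : IsAffineOpen V) (h : U ≤ f ⁻¹ᵁ V) (hrel : RelPCOn f E m U hU V h)
    (g : Γ(X, U)) :
    RelPCOn f E m (X.basicOpen g) (hU.basicOpen g) V ((X.basicOpen_le g).trans h) := by
  obtain ⟨M, ⟨e⟩⟩ := exists_chart hU E hE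
  have hM := hrel M ⟨e⟩
  have := flat_basicOpen hU g
  obtain ⟨t⟩ := nonempty_chartObj_basicOpen_iso hU g E M e
  apply relPCOn_of_exists _ t
  let _ : Algebra Γ(S, V) Γ(X, U) := (f.appLE V U h).hom.toAlgebra
  let _ : Algebra Γ(S, V) Γ(X, X.basicOpen g) :=
    (f.appLE V (X.basicOpen g) ((X.basicOpen_le g).trans h)).hom.toAlgebra
  have : IsScalarTower Γ(S, V) Γ(X, U) Γ(X, X.basicOpen g) :=
    IsScalarTower.of_algebraMap_eq' (by
      show (f.appLE V (X.basicOpen g) _).hom =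
        (X.presheaf.map (homOfLE (X.basicOpen_le g)).op).hom.comp (f.appLE V U h).hom
      rw [← CommRingCat.hom_comp, f.appLE_map])
  have : Algebra.FiniteType Γ(S, V) Γ(X, U) := finiteType_appLE hU hV h
  have := hU.isLocalization_basicOpen g
  exact relPC_G_of_away g M m hM

/-- shrinking the base to a basic open does not change relative pseudo-coherence -/
theorem relPCOn_base_iff {U : X.Opens} (hU : IsAffineOpen U) {V : S.Opens} (hV : IsAffineOpen V)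
    (b : Γ(S, V)) (h : U ≤ f ⁻¹ᵁ (S.basicOpen b)) :
    RelPCOn f E m U hU (S.basicOpen b) h ↔
      RelPCOn f E m U hU V (h.trans (f.preimage_mono (S.basicOpen_le b))) := by
  unfold RelPCOn
  refine forall_congr' fun M => forall_congr' fun _ => ?_
  let _ : Algebra Γ(S, V) Γ(X, U) :=
    (f.appLE V U (h.trans (f.preimage_mono (S.basicOpen_le b)))).hom.toAlgebra
  let _ : Algebra Γ(S, S.basicOpen b) Γ(X, U) := (f.appLE (S.basicOpen b) U h).hom.toAlgebra
  have : IsScalarTower Γ(S, V) Γ(S, S.basicOpen b) Γ(X, U) :=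
    IsScalarTower.of_algebraMap_eq' (by
      show (f.appLE V U _).hom =
        (f.appLE (S.basicOpen b) U h).hom.comp
          (S.presheaf.map (homOfLE (S.basicOpen_le b)).op).hom
      rw [← CommRingCat.hom_comp, f.map_appLE])
  have : Algebra.FiniteType Γ(S, V) Γ(X, U) := finiteType_appLE hU hV _
  have := hV.isLocalization_basicOpen b
  exact relPC_base_iff b M m

/-- relative pseudo-coherence can be checked on a cover of `U` by basic opens -/
theorem relPCOn_of_basicOpen_cover {U : X.Opens} (hU : IsAffineOpen U)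
    {V : S.Opens} (hV : IsAffineOpen V) (h : U ≤ f ⁻¹ᵁ V)
    (hcov : ∀ x ∈ U, ∃ g : Γ(X, U), x ∈ X.basicOpen g ∧
      RelPCOn f E m (X.basicOpen g) (hU.basicOpen g) V ((X.basicOpen_le g).trans h)) :
    RelPCOn f E m U hU V h := by
  let s : Set Γ(X, U) := {g | RelPCOn f E m (X.basicOpen g) (hU.basicOpen g) V
    ((X.basicOpen_le g).trans h)}
  have hs : Ideal.span s = ⊤ := by
    rw [← hU.self_le_iSup_basicOpen_iff]
    intro x hx
    obtain ⟨g, hxg, hg⟩ := hcov x hx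
    exact Opens.mem_iSup.2 ⟨⟨g, hg⟩, hxg⟩
  obtain ⟨t, hts, ht⟩ := (Ideal.span_eq_top_iff_finite s).1 hs
  let g : Fin t.card → Γ(X, U) := fun i => (t.equivFin.symm i : Γ(X, U))
  have hgt : ∀ i, g i ∈ t := fun i => (t.equivFin.symm i).2
  have hrange : Set.range g = (t : Set Γ(X, U)) := by
    ext y
    constructor
    · rintro ⟨i, rfl⟩
      exact hgt i
    · intro hy
      exact ⟨t.equivFin ⟨y, hy⟩, by simp [g]⟩
  have hg : Ideal.span (Set.range g) = ⊤ := by rw [hrange]; exact ht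
  rintro M ⟨e⟩
  let _ : Algebra Γ(S, V) Γ(X, U) := (f.appLE V U h).hom.toAlgebra
  let _ : ∀ i, Algebra Γ(S, V) Γ(X, X.basicOpen (g i)) := fun i =>
    (f.appLE V (X.basicOpen (g i)) ((X.basicOpen_le (g i)).trans h)).hom.toAlgebra
  have : ∀ i, IsScalarTower Γ(S, V) Γ(X, U) Γ(X, X.basicOpen (g i)) := fun i =>
    IsScalarTower.of_algebraMap_eq' (by
      show (f.appLE V (X.basicOpen (g i)) _).hom =
        (X.presheaf.map (homOfLE (X.basicOpen_le (g i))).op).hom.comp (f.appLE V U h).hom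
      rw [← CommRingCat.hom_comp, f.appLE_map])
  have : Algebra.FiniteType Γ(S, V) Γ(X, U) := finiteType_appLE hU hV h
  have : ∀ i, IsLocalization.Away (g i) Γ(X, X.basicOpen (g i)) := fun i =>
    hU.isLocalization_basicOpen (g i)
  have : ∀ i, Module.Flat Γ(X, U) Γ(X, X.basicOpen (g i)) := fun i => flat_basicOpen hU (g i)
  apply relPC_of_cover g hg (fun i => Γ(X, X.basicOpen (g i))) M m
  intro i
  obtain ⟨ti⟩ := nonempty_chartObj_basicOpen_iso hU (g i) E M e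
  exact hts (hgt i) _ ⟨ti⟩

omit [LocallyOfFiniteType f] in
/-- chart-form relative pseudo-coherence gives the ring-level condition on all affine pairs -/
theorem relPCOn_of_isPseudoCoherentRel (hE : DCoh.IsQCohD E)
    (hrel : DerSch.IsPseudoCoherentRel f m E) {U : X.Opens} (hU : IsAffineOpen U)
    {V : S.Opens} (hV : IsAffineOpen V) (h : U ≤ f ⁻¹ᵁ V) : RelPCOn f E m U hU V h := by
  obtain ⟨hft, 𝒱, h𝒱, H⟩ := hrel
  apply relPCOn_of_basicOpen_cover hU hV h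
  intro x hxU
  have hfx : f x ∈ (⨆ V ∈ 𝒱, (V : S.Opens)) := by rw [h𝒱]; trivial
  obtain ⟨V', hfx'⟩ := Opens.mem_iSup.1 hfx
  obtain ⟨hV'mem, hfxV'⟩ := Opens.mem_iSup.1 hfx'
  obtain ⟨𝒰, h𝒰, HU⟩ := H V' hV'mem
  have hx' : x ∈ (⨆ U ∈ 𝒰, (U : X.Opens)) := by rw [h𝒰]; exact hfxV'
  obtain ⟨U', hx''⟩ := Opens.mem_iSup.1 hx'
  obtain ⟨hU'mem, hxU'⟩ := Opens.mem_iSup.1 hx''
  have hU'V' : (U' : X.Opens) ≤ f ⁻¹ᵁ (V' : S.Opens) := by
    rw [← h𝒰]
    exact le_iSup₂ (f := fun (U : X.affineOpens) (_ : U ∈ 𝒰) => (U : X.Opens)) U' hU'mem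
  obtain ⟨n, φ, hφ, hpc⟩ := HU U' hU'mem hU'V'
  have r1 : RelPCOn f E m U' U'.2 V' hU'V' := relPCOn_of_chart hE U'.2 hU'V' φ hφ hpc
  obtain ⟨b, b', hbb', hfxb⟩ := exists_basicOpen_le_affine_inter hV V'.2 (f x) ⟨h hxU, hfxV'⟩
  let a' : Γ(X, (U' : X.Opens)) := f.appLE V' U' hU'V' b'
  have ha' : X.basicOpen a' = (U' : X.Opens) ⊓ f ⁻¹ᵁ (S.basicOpen b') :=
    Scheme.basicOpen_appLE f U' V' hU'V' b'
  have hU₁ : IsAffineOpen (X.basicOpen a') := U'.2.basicOpen a'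
  have r2 := relPCOn_basicOpen hE U'.2 V'.2 hU'V' r1 a'
  have hU₁b' : X.basicOpen a' ≤ f ⁻¹ᵁ (S.basicOpen b') := by rw [ha']; exact inf_le_right
  have r3 : RelPCOn f E m (X.basicOpen a') hU₁ (S.basicOpen b') hU₁b' :=
    (relPCOn_base_iff hU₁ V'.2 b' hU₁b').2 r2
  have hU₁b : X.basicOpen a' ≤ f ⁻¹ᵁ (S.basicOpen b) := by rw [hbb']; exact hU₁b'
  have r4 : RelPCOn f E m (X.basicOpen a') hU₁ (S.basicOpen b) hU₁b :=
    relPCOn_congr_base hbb'.symm r3
  have r5 := (relPCOn_base_iff hU₁ hV b hU₁b).1 r4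
  have hxU₁ : x ∈ X.basicOpen a' := by
    rw [ha']
    refine ⟨hxU', ?_⟩
    show f x ∈ S.basicOpen b'
    rw [← hbb']
    exact hfxb
  obtain ⟨g, g₁, hgg₁, hxg⟩ := exists_basicOpen_le_affine_inter hU hU₁ x ⟨hxU, hxU₁⟩
  have r6 := relPCOn_basicOpen hE hU₁ hV _ r5 g₁
  exact ⟨g, hxg, relPCOn_congr hgg₁.symm r6⟩

end Localize

end Groth.Agent.Lib.Helper30.RelPCLoc
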